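import Cfsg.Agent.Lib.TC.Enc

namespace Cfsg.Agent.Lib.Schur.Fi23c.E3.CT0

open Cfsg.Agent.Lib.TC.Enc

set_option maxRecDepth 100000

/-- A part of the chunks of the certificate. -/
noncomputable def tree : Tr Nat :=
(Tr.leaf (nat_lit 0x990289ed50c799c67540aea7cfd4f0fa9d780289cccd01a9b8b12c9e664dccc0b9975702898c4a2d8930332b0de40bc4907891b5028a4ac4bb78e6ef1a0623d1b459378ab3028a49c13b6876ed0cbda160bc6134833302880bc4215803aafe655fa09be0357db2028a493b3b47a6e8f2bd1e11a3bbf6845102880b40ad374526e70c5c00abd872715002880a3aad26e524db0c1acb9363f3726f0289c8b4b516889ec804dbcd8b38b0656c0289c83135061898bc049a8d6afbf1660c0288a7ae10e5a022c623d6427ac3ec570b0288a72ac6f5b19ca82394c27293eb516a0289c6a7b4d4e894969b53608300ad4c2a02892624a0b47020ba6311a052280f5629028925a1c6c483968462d0604a000e50480289851f2c93c01a950a0e8062206a3b470289849c46a3d5126f09cd4059f86936a6028a43173a7326d062028e514181282fa4028a4214468336ca56024d11395127298402880416c642264c4ca9894f3120e623a3028a418e3a52088e58b947d128f1251d6302880393806218862e99068d20c8a418420288028dac3150082d08848b18a0631321028921082020f3841c00c4600860220d000288a08510109182102041c0105be00600028a9002500039c00530006500000105))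

end Cfsg.Agent.Lib.Schur.Fi23c.E3.CT0
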